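import Groth.Prelude.Def_NonAbH2
import Groth.Agent.FpqcDescLib.Closed
import Mathlib.AlgebraicGeometry.Morphisms.Flat
import Mathlib.AlgebraicGeometry.Morphisms.FinitePresentation

/-!
# fppf-locally trivial morphisms are covered by a single fpqc covering
-/

universe u

open CategoryTheory Limits AlgebraicGeometry

namespace Groth.Agent.GITBal

open FpqcDescLib

/-- A morphism with fppf-local sections has a covering factoring through it. -/
theorem covers_of_isLocallyTrivialFor {X Y : Scheme.{u}} (j : X ⟶ Y)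
    (h : NonAbH1.IsLocallyTrivialFor Scheme.fppfPrecoverage (Over.mk j : Over Y)) : Covers j := by
  obtain ⟨R, hR, hsec⟩ := h
  rw [Scheme.fppfPrecoverage] at hR
  have hsurj : ∀ y : Y, ∃ (U : Scheme.{u}) (g : U ⟶ Y), R g ∧ y ∈ Set.range g := fun y => by
    obtain ⟨ι, U, g, rfl⟩ := Presieve.exists_eq_ofArrows R
    rw [Scheme.ofArrows_mem_precoverage_iff] at hR
    obtain ⟨i, hi⟩ := hR.1 y
    exact ⟨U i, g i, ⟨i⟩, hi⟩
  choose U g hg hy using hsurj
  have hsec' : ∀ y, ∃ s : U y ⟶ X, s ≫ j = g y := fun y => hsec (g y) (hg y)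
  choose s hs using hsec'
  refine ⟨∐ U, Sigma.desc s, ?_⟩
  have e : Sigma.desc s ≫ j = Sigma.desc g := Sigma.hom_ext _ _ fun y => by
    rw [Sigma.ι_desc_assoc, Sigma.ι_desc]
    exact hs y
  rw [e]
  haveI : Flat (Sigma.desc g) := IsZariskiLocalAtSource.sigmaDesc fun y => (hR.2 (hg y)).1
  haveI : LocallyOfFinitePresentation (Sigma.desc g) :=
    IsZariskiLocalAtSource.sigmaDesc fun y => (hR.2 (hg y)).2
  haveI : Surjective (Sigma.desc g) := ⟨fun t => by
    obtain ⟨v, hv⟩ := hy t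
    exact ⟨Sigma.ι U t v, by rw [← Scheme.Hom.comp_apply, Sigma.ι_desc]; exact hv⟩⟩
  exact isCovering_of_lfp (Sigma.desc g)

end Groth.Agent.GITBal
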