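import Groth.Agent.GrpSchLib.Homogeneous
import Groth.Agent.AlgStLib.MonoQuotGrp
import Groth.Agent.FlatMisc.GenFlat
import Groth.Agent.EtFound.Descent
import Groth.Agent.GrpSchLib.AntiAffineHom
import Mathlib.AlgebraicGeometry.Morphisms.Proper

/-!
# The orbit map is proper when the orbit is closed and the stabiliser is proper
-/

set_option backward.isDefEq.respectTransparency false
set_option backward.isDefEq.respectTransparency.types false

universe u

open CategoryTheory CategoryTheory.Limits MonoidalCategory CartesianMonoidalCategory MonObj AlgebraicGeometry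
  TopologicalSpace

namespace Groth.Agent.GITBal

open GrpSchLib

/-- Left translation by a rational point and the compatible translation of the target. -/
theorem exists_translations {S : Scheme.{u}} {G X : Over S} [GrpObj G] (a : AlgGrp.Action G X)
    (x : 𝟙_ (Over S) ⟶ X) (g : 𝟙_ (Over S) ⟶ G) :
    ∃ (M : G ≅ G) (T : X ≅ X), M.hom ≫ a.orbitMap x = a.orbitMap x ≫ T.hom ∧
      ∀ h : 𝟙_ (Over S) ⟶ G, h ≫ M.hom = g * h := by
  let T : X ≅ X :=
    { hom := lift (toUnit X ≫ g) (𝟙 X) ≫ a.act
      inv := lift (toUnit X ≫ g)⁻¹ (𝟙 X) ≫ a.act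
      hom_inv_id := by
        rw [← Category.assoc, comp_lift, Category.comp_id, GrpObj.comp_inv, ← Category.assoc (lift _ _ ≫ _),
          comp_toUnit, act_mul, inv_mul_cancel, act_one]
      inv_hom_id := by
        rw [← Category.assoc, comp_lift, Category.comp_id, ← Category.assoc (lift _ _ ≫ _),
          comp_toUnit, act_mul, mul_inv_cancel, act_one] }
  let M : G ≅ G :=
    { hom := (toUnit G ≫ g) * 𝟙 G
      inv := (toUnit G ≫ g)⁻¹ * 𝟙 G
      hom_inv_id := by
        simp only [MonObj.comp_mul, GrpObj.comp_inv, ← Category.assoc, comp_toUnit, Category.comp_id]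
        group
      inv_hom_id := by
        simp only [MonObj.comp_mul, ← Category.assoc, comp_toUnit, Category.comp_id]
        group }
  refine ⟨M, T, ?_, fun h => ?_⟩
  · simp only [M, T, AlgGrp.Action.orbitMap, ← Category.assoc, comp_lift, Category.comp_id, comp_toUnit]
    rw [act_mul]
  · simp only [M, MonObj.comp_mul, ← Category.assoc, comp_toUnit, toUnit_unit, Category.id_comp, Category.comp_id]

/-- A morphism with a transitive family of compatible automorphisms which is flat over some nonempty open is flat. -/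
theorem flat_of_translations {P O : Scheme.{u}} (g : P ⟶ O) (W : O.Opens) [Flat (g ∣_ W)] {κ : Type*}
    (σ : κ → (P ≅ P)) (τ : κ → (O ≅ O)) (h : ∀ i, (σ i).hom ≫ g = g ≫ (τ i).hom)
    (hW : ∀ z : O, ∃ i, (τ i).hom z ∈ W) : Flat g := by
  refine IsZariskiLocalAtTarget.of_iSup_eq_top (P := @Flat) (fun i => (τ i).hom ⁻¹ᵁ W) ?_ fun i => ?_
  · rw [eq_top_iff]
    intro z _
    obtain ⟨i, hi⟩ := hW z
    exact Opens.mem_iSup.mpr ⟨i, hi⟩
  · have sq : IsPullback (σ i).hom g g (τ i).hom := IsPullback.of_horiz_isIso ⟨h i⟩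
    have h1 := (isPullback_morphismRestrict g ((τ i).hom ⁻¹ᵁ W)).flip.paste_horiz sq
    rw [← morphismRestrict_ι (τ i).hom W] at h1
    exact MorphismProperty.of_isPullback (P := @Flat)
      (IsPullback.of_right' h1 (isPullback_morphismRestrict g W).flip) inferInstance

theorem isPullback_of_mono_comp {P O X : Scheme.{u}} (g : P ⟶ O) (j : O ⟶ X) [Mono j] {f : P ⟶ X}
    (hf : g ≫ j = f) : IsPullback (pullback.fst f f) (pullback.snd f f) g g := by
  have w : pullback.fst f f ≫ g = pullback.snd f f ≫ g := by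
    rw [← cancel_mono j, Category.assoc, Category.assoc, hf, pullback.condition]
  refine ⟨⟨w⟩, ⟨PullbackCone.IsLimit.mk w
    (fun s => pullback.lift s.fst s.snd (by rw [← hf, s.condition_assoc]))
    (fun s => pullback.lift_fst _ _ _) (fun s => pullback.lift_snd _ _ _) fun s m h1 h2 => ?_⟩⟩
  apply pullback.hom_ext
  · rw [h1, pullback.lift_fst]
  · rw [h2, pullback.lift_snd]

variable {k : Type u} [Field k] [IsAlgClosed k] {G X : Over (Spec (CommRingCat.of k))} [GrpObj G]
  [LocallyOfFiniteType G.hom] [QuasiCompact G.hom] [LocallyOfFiniteType X.hom]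

/-- Closed orbit and proper stabiliser imply that the orbit map is proper. -/
theorem isProper_orbitMap (a : AlgGrp.Action G X) (x : 𝟙_ (Over (Spec (CommRingCat.of k))) ⟶ X)
    (hc : IsClosed (Set.range (a.orbitMap x).left))
    (hs : IsProper (pullback (a.orbitMap x) x).hom) : IsProper (a.orbitMap x).left := by
  set φ := a.orbitMap x with hφ
  haveI : CompactSpace G.left := (quasiCompact_iff_compactSpace G.hom).mp inferInstance
  haveI : IsSeparated G.hom := GrpSchLib.AntiAffine.isSeparated_grp G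
  haveI : IsLocallyNoetherian X.left := LocallyOfFiniteType.isLocallyNoetherian X.hom
  haveI : QuasiSeparated X.hom := (quasiSeparated_iff_quasiSeparatedSpace X.hom).mpr inferInstance
  haveI : LocallyOfFiniteType (φ.left ≫ X.hom) := by rw [Over.w φ]; infer_instance
  haveI : LocallyOfFiniteType φ.left := locallyOfFiniteType_of_comp φ.left X.hom
  haveI : IsSeparated (φ.left ≫ X.hom) := by rw [Over.w φ]; infer_instance
  haveI : IsSeparated φ.left := IsSeparated.of_comp φ.left X.hom
  haveI : QuasiCompact (φ.left ≫ X.hom) := by rw [Over.w φ]; infer_instance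
  haveI : QuasiCompact φ.left := QuasiCompact.of_comp φ.left X.hom
  -- the kernel pair is proper
  have hfst : IsProper (pullback.fst φ.left φ.left) := by
    have sq : IsPullback ((G ◁ pullback.fst φ x) ≫ μ[G]).left (fst G (pullback φ x)).left φ.left φ.left :=
      (AlgStLib.MonoFactor.isPullback_orbitMap a x).map (Over.forget _)
    haveI : IsProper (fst G (pullback φ x)).left := MorphismProperty.pullback_fst _ _ hs
    rw [← sq.flip.isoPullback_inv_fst]
    infer_instance
  -- reduce to the reduced group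
  let J := Scheme.IdealSheafData.vanishingIdeal (⊤ : Closeds G.left)
  haveI : IsReduced J.subscheme := H23.RedSub.isReduced_vanishingIdeal _
  have hJ : Set.range J.subschemeι = Set.univ := H23.RedSub.range_vanishingIdeal _
  let ιr := J.subschemeι
  haveI : Surjective ιr := ⟨Set.range_eq_univ.mp hJ⟩
  let f := ιr ≫ φ.left
  have hf : IsProper f → IsProper φ.left := fun h => by
    haveI : UniversallyClosed (ιr ≫ φ.left) := h.toUniversallyClosed
    haveI : UniversallyClosed φ.left := UniversallyClosed.of_comp_surjective ιr φ.left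
    exact ⟨⟩
  refine hf ?_
  have hfstf : IsProper (pullback.fst f f) := by
    let c : pullback f f ⟶ pullback φ.left φ.left :=
      pullback.map f f φ.left φ.left ιr ιr (𝟙 _) (Category.comp_id _) (Category.comp_id _)
    haveI hι : IsClosedImmersion ιr := inferInstanceAs (IsClosedImmersion J.subschemeι)
    haveI : IsClosedImmersion c :=
      MorphismProperty.pullbackMap (P := @IsClosedImmersion) (i₁ := ιr) (i₂ := ιr) hι hι rfl rfl
    haveI := hfst
    haveI : IsProper (c ≫ pullback.fst φ.left φ.left) := inferInstance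
    have e : pullback.fst f f ≫ ιr = c ≫ pullback.fst φ.left φ.left := (pullback.lift_fst _ _ _).symm
    haveI : IsProper (pullback.fst f f ≫ ιr) := e ▸ inferInstance
    exact IsProper.of_comp (pullback.fst f f) ιr
  -- the orbit
  have hrf : Set.range f = Set.range φ.left := by
    show Set.range (ιr ≫ φ.left) = _
    rw [Scheme.Hom.comp_base, TopCat.coe_comp]
    exact ιr.surjective.range_comp _
  obtain ⟨O, jO, hjO, hred, hO⟩ := H23.RedSub.exists_reduced_subscheme X.left hc.isLocallyClosed
  haveI := hjO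
  haveI := hred
  haveI : IsClosedImmersion jO := .of_isPreimmersion jO (hO ▸ hc)
  obtain ⟨g, hg⟩ := H23.RedSub.exists_lift f jO (hrf.trans hO.symm).le
  haveI : LocallyOfFiniteType (g ≫ jO) := by rw [hg]; infer_instance
  haveI : LocallyOfFiniteType g := locallyOfFiniteType_of_comp g jO
  haveI : QuasiCompact (g ≫ jO) := by rw [hg]; infer_instance
  haveI : QuasiCompact g := QuasiCompact.of_comp g jO
  haveI hgs : Surjective g := ⟨fun y => by
    obtain ⟨w, hw⟩ := (hO.trans hrf.symm).le ⟨y, rfl⟩
    exact ⟨w, jO.injective (by rw [← Scheme.Hom.comp_apply, hg]; exact hw)⟩⟩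
  haveI : Nonempty O := ⟨g (ιr.surjective ((η[G] : 𝟙_ _ ⟶ G).left (IsLocalRing.closedPoint k))).choose⟩
  haveI : IsLocallyNoetherian O := LocallyOfFiniteType.isLocallyNoetherian jO
  haveI : JacobsonSpace O := LocallyOfFiniteType.jacobsonSpace (jO ≫ X.hom)
  haveI : JacobsonSpace J.subscheme := LocallyOfFiniteType.jacobsonSpace (ιr ≫ G.hom)
  obtain ⟨W, hWne, -, hWflat, -⟩ := FlatMisc.exists_flat_open g ⊤ Set.univ_nonempty
  haveI := hWflat
  -- translations
  choose M T hMT hM using exists_translations a x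
  have hι : ∀ e : G ≅ G, ∃ s : J.subscheme ⟶ J.subscheme, s ≫ ιr = ιr ≫ e.hom.left := fun e =>
    H23.RedSub.exists_lift_closed _ ιr (by rw [hJ]; exact Set.subset_univ _)
  choose σ hσ using hι
  have hσσ : ∀ e : G ≅ G, σ e ≫ σ e.symm = 𝟙 _ := fun e => by
    rw [← cancel_mono ιr, Category.assoc, hσ, reassoc_of% hσ e, ← Over.comp_left]
    simp
  let S : (𝟙_ _ ⟶ G) → (J.subscheme ≅ J.subscheme) := fun w => ⟨σ (M w), σ (M w).symm, hσσ _, hσσ (M w).symm⟩
  have hfT : ∀ w, (S w).hom ≫ f = f ≫ (T w).hom.left := fun w => by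
    show σ (M w) ≫ ιr ≫ φ.left = (ιr ≫ φ.left) ≫ (T w).hom.left
    rw [reassoc_of% hσ, Category.assoc, ← Over.comp_left, ← Over.comp_left, hMT]
  have hfT' : ∀ w, (S w).inv ≫ f = f ≫ (T w).inv.left := fun w => by
    haveI : IsIso (T w).hom.left := ((Over.forget _).mapIso (T w)).isIso_hom
    rw [← cancel_mono (T w).hom.left, Category.assoc, ← hfT, Iso.inv_hom_id_assoc, Category.assoc,
      ← Over.comp_left, Iso.inv_hom_id]
    exact (Category.comp_id _).symm
  have hτex : ∀ (s : J.subscheme ⟶ J.subscheme) (t : X.left ⟶ X.left), s ≫ f = f ≫ t →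
      ∃ τ : O ⟶ O, τ ≫ jO = jO ≫ t ∧ g ≫ τ = s ≫ g := by
    intro s t hst
    obtain ⟨τ, hτ⟩ := H23.RedSub.exists_lift (jO ≫ t) jO (by
      rintro _ ⟨y, rfl⟩
      obtain ⟨z, rfl⟩ := g.surjective y
      refine ⟨g (s z), ?_⟩
      have e : s ≫ g ≫ jO = (g ≫ jO) ≫ t := by rw [hg, hst]
      exact congrArg (fun e : J.subscheme ⟶ X.left => e z) e)
    refine ⟨τ, hτ, ?_⟩
    rw [← cancel_mono jO, Category.assoc, hτ, Category.assoc, hg, ← Category.assoc, hg, hst]
  choose τ hτ hgτ using fun w => hτex _ _ (hfT w)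
  choose τ' hτ' _ using fun w => hτex _ _ (hfT' w)
  let τI : (𝟙_ _ ⟶ G) → (O ≅ O) := fun w => ⟨τ w, τ' w,
    by rw [← cancel_mono jO, Category.assoc, hτ', reassoc_of% hτ w, ← Over.comp_left]; simp,
    by rw [← cancel_mono jO, Category.assoc, hτ, reassoc_of% hτ' w, ← Over.comp_left]; simp⟩
  haveI : Flat g := by
    refine flat_of_translations g W S τI (fun w => (hgτ w).symm) fun z => ?_
    by_contra hz
    push Not at hz
    have hbad : IsClosed {z : O | ∀ w, (τI w).hom z ∉ W} := by
      rw [Set.ofPred_forall]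
      exact isClosed_iInter fun w => (W.2.preimage (τI w).hom.continuous).isClosed_compl
    obtain ⟨c, hc1, hc2⟩ := nonempty_inter_closedPoints (Z := {z : O | ∀ w, (τI w).hom z ∉ W}) ⟨z, hz⟩
      hbad.isLocallyClosed
    obtain ⟨c₀, hc₀, hc₀c⟩ := nonempty_inter_closedPoints hWne W.2.isLocallyClosed
    have lift_pt : ∀ y : O, IsClosed ({y} : Set O) → ∃ w : 𝟙_ _ ⟶ G,
        (φ.left) (w.left (IsLocalRing.closedPoint k)) = jO y := by
      intro y hy
      obtain ⟨z₀, hz₀⟩ := g.surjective y
      obtain ⟨z₁, hz₁, hz₁c⟩ := nonempty_inter_closedPoints (Z := g ⁻¹' {y}) ⟨z₀, hz₀⟩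
        (hy.preimage g.continuous).isLocallyClosed
      have hcl : IsClosed ({ιr z₁} : Set G.left) := by
        have := ιr.isClosedEmbedding.isClosedMap _ hz₁c
        rwa [Set.image_singleton] at this
      let s := (pointEquivClosedPoint G.hom).symm ⟨ιr z₁, hcl⟩
      refine ⟨Over.homMk s.1 s.2, ?_⟩
      have hs1 : s.1 (IsLocalRing.closedPoint k) = ιr z₁ :=
        congrArg Subtype.val ((pointEquivClosedPoint G.hom).apply_symm_apply ⟨ιr z₁, hcl⟩)
      show φ.left (s.1 (IsLocalRing.closedPoint k)) = jO y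
      rw [hs1, ← hz₁, ← Scheme.Hom.comp_apply, ← Scheme.Hom.comp_apply, hg]
    obtain ⟨w₁, hw₁⟩ := lift_pt c hc2
    obtain ⟨w₀, hw₀⟩ := lift_pt c₀ hc₀c
    refine hc1 (w₀ * w₁⁻¹) ?_
    have key : jO ((τI (w₀ * w₁⁻¹)).hom c) = jO c₀ := by
      show jO ((τ _) c) = _
      rw [← Scheme.Hom.comp_apply, hτ, Scheme.Hom.comp_apply, ← hw₁, ← Scheme.Hom.comp_apply,
        ← Over.comp_left, ← hMT, Over.comp_left, Scheme.Hom.comp_apply, ← Scheme.Hom.comp_apply w₁.left,
        ← Over.comp_left, hM, inv_mul_cancel_right, hw₀]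
    rw [jO.injective key]
    exact hc₀
  have sq : IsPullback (pullback.fst f f) (pullback.snd f f) g g := isPullback_of_mono_comp g jO hg
  have hQ : (@Surjective ⊓ @Flat ⊓ @QuasiCompact : MorphismProperty Scheme.{u}) g :=
    ⟨⟨inferInstance, inferInstance⟩, inferInstance⟩
  haveI := EtFound.fpqc_isProper.{u}
  haveI : IsProper g := MorphismProperty.of_isPullback_of_descendsAlong (P := @IsProper) sq hQ hfstf
  rw [← hg]
  infer_instance

end Groth.Agent.GITBal
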