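import Groth.Agent.EqIntLib.StabFibre
import Groth.Agent.GrpSchLib.FibreDimGrp
import Groth.Prelude.Def_GLinSh

/-!
# The stabiliser of a point as a fibre of the universal stabiliser, and upper semicontinuity of its dimension
-/

universe u

open CategoryTheory CategoryTheory.Limits MonoidalCategory CartesianMonoidalCategory MonObj GrpObj AlgebraicGeometry

namespace Groth.Agent.GITBal

open EqIntLib

variable {S : Scheme.{u}} {G X : Over S} [GrpObj G] (a : AlgGrp.Action G X)

omit [GrpObj G] in
theorem isPullback_whiskerLeft {A B : Over S} (W : Over S) (f : A ⟶ B) :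
    IsPullback (W ◁ f) (snd W A) (snd W B) f :=
  ⟨⟨whiskerLeft_snd W f⟩, ⟨PullbackCone.IsLimit.mk (whiskerLeft_snd W f)
    (fun s => lift (s.fst ≫ fst W B) s.snd)
    (fun s => by
      refine CartesianMonoidalCategory.hom_ext _ _ ?_ ?_
      · simp
      · simpa using s.condition.symm)
    (fun s => lift_snd _ _)
    (fun s m h1 h2 => by
      refine CartesianMonoidalCategory.hom_ext _ _ ?_ ?_
      · rw [← h1]; simp
      · simpa using h2)⟩⟩

theorem isPullback_psi {T : Over S} (f : T ⟶ X) :
    IsPullback (G ◁ f) (GIT.psi a f) (GIT.psi a (𝟙 X)) (X ◁ f) := by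
  have h := isPullback_whiskerLeft G f
  rw [show snd G T = GIT.psi a f ≫ snd X T by simp [GIT.psi],
    show snd G X = GIT.psi a (𝟙 X) ≫ snd X X by simp [GIT.psi]] at h
  refine IsPullback.of_bot h ?_ (isPullback_whiskerLeft X f)
  refine CartesianMonoidalCategory.hom_ext _ _ ?_ ?_
  · simp [GIT.psi]
  · simp [GIT.psi]

/-- The stabiliser of a point is the base change of the universal stabiliser. -/
theorem nonempty_stab_iso {T : Over S} (f : T ⟶ X) :
    Nonempty (GLinSh.stab a f ≅ pullback (stabHom a) f.left) := by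
  have h1 : IsPullback (G ◁ f).left (GIT.psi a f).left (GIT.psi a (𝟙 X)).left (X ◁ f).left :=
    (isPullback_psi a f).map (Over.forget S)
  have h2 := (IsPullback.of_hasPullback (GIT.psi a f).left (lift f (𝟙 T)).left).paste_horiz h1
  have h3 := (IsPullback.of_hasPullback (stabHom a) f.left).paste_horiz
    (IsPullback.of_hasPullback (GIT.psi a (𝟙 X)).left (lift (𝟙 X) (𝟙 X)).left)
  have e : (lift f (𝟙 T)).left ≫ (X ◁ f).left = f.left ≫ (lift (𝟙 X) (𝟙 X)).left := by
    rw [← Over.comp_left, ← Over.comp_left]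
    simp
  rw [e] at h2
  exact ⟨h2.isoIsPullback _ _ h3⟩

theorem locallyOfFiniteType_stabHom [LocallyOfFiniteType G.hom] [LocallyOfFiniteType X.hom] :
    LocallyOfFiniteType (stabHom a) := by
  haveI : LocallyOfFiniteType (snd G X).left := MorphismProperty.pullback_snd G.hom X.hom ‹_›
  haveI : LocallyOfFiniteType (G ⊗ X).hom := by rw [← Over.w (snd G X)]; infer_instance
  haveI : LocallyOfFiniteType ((GIT.psi a (𝟙 X)).left ≫ (X ⊗ X).hom) := by rw [Over.w]; infer_instance
  haveI : LocallyOfFiniteType (GIT.psi a (𝟙 X)).left := locallyOfFiniteType_of_comp _ (X ⊗ X).hom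
  infer_instance

/-- The dimension of the stabiliser is upper semicontinuous. -/
theorem upperSemicontinuous_stab [LocallyOfFiniteType G.hom] [LocallyOfFiniteType X.hom] :
    UpperSemicontinuous (fun x : X.left => topologicalKrullDim
      ↥(GLinSh.stab a (Over.homMk (X.left.fromSpecResidueField x) rfl :
        Over.mk (X.left.fromSpecResidueField x ≫ X.hom) ⟶ X))) := by
  haveI := locallyOfFiniteType_stabHom a
  let σ : Over X.left := Over.mk (pullback.snd (stabHom a) (𝟙 X.left))
  haveI : GrpObj σ := fibreGrpObj a (𝟙 X.left)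
  haveI : LocallyOfFiniteType σ.hom := inferInstanceAs (LocallyOfFiniteType (pullback.snd _ _))
  convert GrpSchLib.FibreDimGrp.upperSemicontinuous σ using 2 with x
  obtain ⟨e⟩ := nonempty_stab_iso a (T := Over.mk (X.left.fromSpecResidueField x ≫ X.hom))
    (Over.homMk (X.left.fromSpecResidueField x) rfl)
  let p := pullback.fst (stabHom a) (𝟙 X.left)
  haveI : IsIso p := inferInstance
  have hp : σ.hom = p ≫ stabHom a := by
    show pullback.snd (stabHom a) (𝟙 X.left) = p ≫ stabHom a
    rw [pullback.condition, Category.comp_id]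
  have e1 := e.hom.homeomorph.isHomeomorph.topologicalKrullDim_eq
  have e2 := ((stabHom a).fiberHomeo x).isHomeomorph.topologicalKrullDim_eq
  refine e1.trans (e2.trans ?_)
  have e3 : (p.homeomorph ⁻¹' ((stabHom a) ⁻¹' {x})) = σ.hom ⁻¹' {x} := by
    ext z
    show (stabHom a) (p z) = x ↔ σ.hom z = x
    rw [hp, Scheme.Hom.comp_apply]
  rw [← e3]
  exact ((p.homeomorph.subtype (q := fun w => w ∈ (stabHom a) ⁻¹' {x})
    (fun z => Iff.rfl)).isHomeomorph.topologicalKrullDim_eq).symm

end Groth.Agent.GITBal
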